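import Mathlib
import Groth.Agent.QCRange.Basic

/-!
# Valuative criteria along a dense morphism `Z ⟶ Y`
-/

set_option autoImplicit false
set_option linter.style.haveILetI false
universe u

open CategoryTheory Limits AlgebraicGeometry IsLocalRing

noncomputable section

namespace Groth.Agent.ValGen

variable {X Y Z W : Scheme.{u}}

/-- A specialization of the image of `z` is dominated by a valuation ring of the residue field of
`z`. -/
theorem exists_extend (g : Z ⟶ W) (z : Z) (w : W) (hs : g z ⤳ w) :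
    ∃ (R : ValuationSubring (Z.residueField z))
      (σ : W.presheaf.stalk w ⟶ CommRingCat.of R), IsLocalHom σ.hom ∧
      Spec.map (CommRingCat.ofHom R.subtype) ≫ Spec.map σ ≫ W.fromSpecStalk w =
        Z.fromSpecResidueField z ≫ g := by
  let a : W.presheaf.stalk w ⟶ Z.residueField z :=
    W.presheaf.stalkSpecializes hs ≫ g.stalkMap z ≫ Z.residue z
  obtain ⟨A, hA, hA'⟩ := exists_factor_valuationRing a.hom
  let σ : W.presheaf.stalk w ⟶ CommRingCat.of A :=
    CommRingCat.ofHom (a.hom.codRestrict A.toSubring hA)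
  have e : σ ≫ CommRingCat.ofHom A.subtype = a := rfl
  refine ⟨A, σ, hA', ?_⟩
  rw [← Spec.map_comp_assoc, e]
  show Spec.map a ≫ W.fromSpecStalk w = (Spec.map (Z.residue z) ≫ Z.fromSpecStalk z) ≫ g
  rw [Category.assoc, ← Scheme.SpecMap_stalkMap_fromSpecStalk,
    ← Scheme.SpecMap_stalkSpecializes_fromSpecStalk hs]
  simp only [a, Spec.map_comp, Category.assoc]

/-- The closed point goes to the given point. -/
theorem closedPoint_map {R : CommRingCat.{u}} [IsLocalRing R] {w : W}
    (σ : W.presheaf.stalk w ⟶ R) [IsLocalHom σ.hom] :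
    (Spec.map σ ≫ W.fromSpecStalk w) (closedPoint R) = w := by
  show W.fromSpecStalk w (Spec.map σ (closedPoint R)) = w
  exact (congrArg (fun p => W.fromSpecStalk w p) (Spec_closedPoint (f := σ))).trans
    Scheme.fromSpecStalk_closedPoint

/-- Two morphisms from the spectrum of a local ring agreeing after an injective local extension
agree. -/
theorem eq_of_local_injective {R S : CommRingCat.{u}} [IsLocalRing R] [IsLocalRing S]
    (j : R ⟶ S) [IsLocalHom j.hom] (hj : Function.Injective j.hom) (a b : Spec R ⟶ X)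
    (h : Spec.map j ≫ a = Spec.map j ≫ b) : a = b := by
  obtain ⟨⟨p, s, hs⟩, rfl⟩ := (SpecToEquivOfLocalRing X R).symm.surjective a
  obtain ⟨⟨q, t, ht⟩, rfl⟩ := (SpecToEquivOfLocalRing X R).symm.surjective b
  simp only [SpecToEquivOfLocalRing_symm_apply] at h ⊢
  have hp : p = q := by
    have h' := congrArg (fun φ => φ (closedPoint S)) h
    haveI := hs
    haveI := ht
    haveI : IsLocalHom (s ≫ j).hom := inferInstanceAs (IsLocalHom (j.hom.comp s.hom))
    haveI : IsLocalHom (t ≫ j).hom := inferInstanceAs (IsLocalHom (j.hom.comp t.hom))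
    have hp' := closedPoint_map (s ≫ j)
    have hq' := closedPoint_map (t ≫ j)
    rw [Spec.map_comp_assoc] at hp' hq'
    exact hp'.symm.trans (h'.trans hq')
  subst hp
  rw [← Spec.map_comp_assoc, ← Spec.map_comp_assoc, cancel_mono, Spec.map_inj] at h
  have hst : s = t := CommRingCat.hom_ext (RingHom.ext fun x =>
    hj (congrArg (fun φ => φ.hom x) h))
  subst hst
  rfl

/-- Points generalize to the image of a dense morphism. -/
theorem exists_generization [CompactSpace Z] [QuasiSeparatedSpace Y] (h : Z ⟶ Y)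
    (hd : DenseRange h.base) (y : Y) : ∃ z : Z, h z ⤳ y := by
  have : QuasiCompact h := inferInstance
  exact QCRange.exists_specializes h y (hd y)

/-- Refined uniqueness implies separatedness. -/
theorem isSeparated_of_refined [CompactSpace Z] [QuasiSeparatedSpace Y] (h : Z ⟶ Y) (f : Y ⟶ X)
    [QuasiSeparated f] (hd : DenseRange h.base)
    (H : ∀ (z : Z) (R : ValuationSubring (Z.residueField z))
      (φ₁ φ₂ : Spec (CommRingCat.of R) ⟶ Y),
      Spec.map (CommRingCat.ofHom R.subtype) ≫ φ₁ = Z.fromSpecResidueField z ≫ h →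
      Spec.map (CommRingCat.ofHom R.subtype) ≫ φ₂ = Z.fromSpecResidueField z ≫ h →
      φ₁ ≫ f = φ₂ ≫ f → φ₁ = φ₂) :
    IsSeparated f where
  isClosedImmersion_diagonal := by
    refine .of_isPreimmersion _ (closure_subset_iff_isClosed.mp fun w hw => ?_)
    obtain ⟨y, hy⟩ := QCRange.exists_specializes (pullback.diagonal f) w hw
    obtain ⟨z, hz⟩ := exists_generization h hd y
    obtain ⟨R, σ, hσ, hR⟩ := exists_extend (h ≫ pullback.diagonal f) z w
      ((hz.map (pullback.diagonal f).continuous).trans hy)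
    have := H z R ((Spec.map σ ≫ (pullback f f).fromSpecStalk w) ≫ pullback.fst f f)
      ((Spec.map σ ≫ (pullback f f).fromSpecStalk w) ≫ pullback.snd f f)
      (by rw [← Category.assoc, hR]; simp) (by rw [← Category.assoc, hR]; simp)
      (by simp [pullback.condition])
    refine ⟨((Spec.map σ ≫ (pullback f f).fromSpecStalk w) ≫ pullback.fst f f) (closedPoint R), ?_⟩
    have e : ((Spec.map σ ≫ (pullback f f).fromSpecStalk w) ≫ pullback.fst f f) ≫
        pullback.diagonal f = Spec.map σ ≫ (pullback f f).fromSpecStalk w := by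
      apply pullback.hom_ext
      · simp
      · simp only [Category.assoc, pullback.diagonal_snd, Category.comp_id] at this ⊢
        exact this
    have := hσ
    exact (congrArg (fun φ => φ (closedPoint R)) e).trans (closedPoint_map σ)

/-- The preimage in a valuation ring of a valuation ring of its residue field. -/
def compVal {L : Type u} [Field L] (V : ValuationSubring L)
    (A : ValuationSubring (ResidueField V)) : ValuationSubring L :=
  ValuationSubring.ofSubring ((A.toSubring.comap (residue V)).map V.subtype) fun x => by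
    simp only [Subring.mem_map, Subring.mem_comap]
    rcases V.mem_or_inv_mem x with hx | hx
    · by_cases hA : residue V ⟨x, hx⟩ ∈ A
      · exact .inl ⟨⟨x, hx⟩, hA, rfl⟩
      · right
        have hne : residue V ⟨x, hx⟩ ≠ 0 := fun h => hA (h ▸ A.zero_mem)
        obtain ⟨v, hv⟩ : IsUnit (⟨x, hx⟩ : V) := by
          by_contra hu
          exact hne ((residue_eq_zero_iff _).mpr hu)
        have hinv : x⁻¹ = ((v⁻¹ : Vˣ) : V) := by
          refine (eq_inv_of_mul_eq_one_left ?_).symm
          have := congrArg (fun a : V => (a : L)) v.inv_mul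
          rw [hv] at this
          exact this
        refine ⟨((v⁻¹ : Vˣ) : V), ?_, hinv.symm⟩
        have := (A.mem_or_inv_mem (residue V ⟨x, hx⟩)).resolve_left hA
        rwa [ValuationSubring.mem_toSubring, map_units_inv, hv]
    · by_cases hu : IsUnit (⟨x⁻¹, hx⟩ : V)
      · obtain ⟨v, hv⟩ := hu
        have hinv : x = ((v⁻¹ : Vˣ) : V) := by
          have := congrArg (fun a : V => (a : L)) v.inv_mul
          rw [hv] at this
          exact (eq_inv_of_mul_eq_one_left this).trans (inv_inv x) |>.symm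
        by_cases hA : residue V ⟨x⁻¹, hx⟩ ∈ A
        · exact .inr ⟨⟨x⁻¹, hx⟩, hA, rfl⟩
        · refine .inl ⟨((v⁻¹ : Vˣ) : V), ?_, hinv.symm⟩
          have := (A.mem_or_inv_mem (residue V ⟨x⁻¹, hx⟩)).resolve_left hA
          rwa [ValuationSubring.mem_toSubring, map_units_inv, hv]
      · exact .inr ⟨⟨x⁻¹, hx⟩, by
          rw [(residue_eq_zero_iff _).mpr hu]; exact A.zero_mem, rfl⟩

theorem mem_compVal {L : Type u} [Field L] (V : ValuationSubring L)
    (A : ValuationSubring (ResidueField V)) (x : L) :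
    x ∈ compVal V A ↔ ∃ hx : x ∈ V, residue V ⟨x, hx⟩ ∈ A := by
  simp only [compVal, ValuationSubring.mem_ofSubring, Subring.mem_map, Subring.mem_comap]
  exact ⟨fun ⟨a, ha, e⟩ => e ▸ ⟨a.2, ha⟩, fun ⟨hx, h⟩ => ⟨⟨x, hx⟩, h, rfl⟩⟩

/-- Refined existence and uniqueness imply existence of lifts. -/
theorem existence_of_refined [CompactSpace Z] [QuasiSeparatedSpace Y] (h : Z ⟶ Y) (f : Y ⟶ X)
    (hd : DenseRange h.base)
    (H : ∀ (z : Z) (R : ValuationSubring (Z.residueField z)) (φ : Spec (CommRingCat.of R) ⟶ X),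
        Spec.map (CommRingCat.ofHom R.subtype) ≫ φ = Z.fromSpecResidueField z ≫ h ≫ f →
        ∃! φ' : Spec (CommRingCat.of R) ⟶ Y,
          Spec.map (CommRingCat.ofHom R.subtype) ≫ φ' = Z.fromSpecResidueField z ≫ h ∧
            φ' ≫ f = φ) :
    ValuativeCriterion.Existence f := by
  rintro ⟨R, K, i₁, i₂, ⟨w⟩⟩
  let y : Y := i₁ (closedPoint K)
  let τ : Y.presheaf.stalk y ⟶ CommRingCat.of K := Scheme.stalkClosedPointTo i₁
  let x₀ : X := i₂ (closedPoint R)
  let α : X.presheaf.stalk x₀ ⟶ CommRingCat.of R := Scheme.stalkClosedPointTo i₂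
  have hi₁ : Spec.map τ ≫ Y.fromSpecStalk y = i₁ := Scheme.Spec_stalkClosedPointTo_fromSpecStalk i₁
  have hi₂ : Spec.map α ≫ X.fromSpecStalk x₀ = i₂ := Scheme.Spec_stalkClosedPointTo_fromSpecStalk i₂
  haveI : IsLocalHom τ.hom := Scheme.isLocalHom_stalkClosedPointTo' i₁
  haveI hαloc : IsLocalHom α.hom := Scheme.isLocalHom_stalkClosedPointTo' i₂
  have hsp : f y ⤳ x₀ := by
    have h1 : f (i₁ (closedPoint K)) =
        i₂ (Spec.map (CommRingCat.ofHom (algebraMap R K)) (closedPoint K)) :=
      congrArg (fun φ => φ (closedPoint K)) w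
    show f (i₁ (closedPoint K)) ⤳ i₂ (closedPoint R)
    rw [h1]
    exact (specializes_closedPoint (R := R) _).map i₂.continuous
  -- the map `O_{x₀} → O_y`
  let β : X.presheaf.stalk x₀ ⟶ Y.presheaf.stalk y :=
    X.presheaf.stalkSpecializes hsp ≫ f.stalkMap y
  have hβ : Spec.map β ≫ X.fromSpecStalk x₀ = Y.fromSpecStalk y ≫ f := by
    simp only [β, Spec.map_comp, Category.assoc, Scheme.SpecMap_stalkSpecializes_fromSpecStalk,
      Scheme.SpecMap_stalkMap_fromSpecStalk]
  have hcomm : β ≫ τ = α ≫ CommRingCat.ofHom (algebraMap R K) := by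
    apply Spec.map_injective
    rw [← cancel_mono (X.fromSpecStalk x₀), Spec.map_comp_assoc, hβ, ← Category.assoc, hi₁, w,
      Spec.map_comp_assoc, hi₂]
  -- a valuation ring of the residue field of a point of `Z` dominating `y`
  obtain ⟨z, hz⟩ := exists_generization h hd y
  obtain ⟨V, σ, hσ, hV⟩ := exists_extend h z y hz
  let κ := ResidueField (Y.presheaf.stalk y)
  let ι : κ →+* ResidueField V := @IsLocalRing.ResidueField.map _ _ _ _ _ _ σ.hom hσ
  let θ : κ →+* K := IsLocalRing.ResidueField.lift τ.hom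
  -- the valuation ring of `κ` induced by `R`
  let AR : ValuationSubring K := ValuationSubring.ofSubring (algebraMap R K).range fun x => by
    rcases (ValuationRing.isInteger_or_isInteger R x) with ⟨r, hr⟩ | ⟨r, hr⟩
    · exact .inl ⟨r, hr⟩
    · exact .inr ⟨r, hr⟩
  have hAR : ∀ x, x ∈ AR ↔ ∃ r, algebraMap R K r = x := fun x => Iff.rfl
  let R₀ : ValuationSubring κ := AR.comap θ
  obtain ⟨A, hA, hAloc⟩ := exists_factor_valuationRing (ι.comp R₀.subtype)
  have hAR₀ : ∀ a : κ, ι a ∈ A → a ∈ R₀ := by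
    intro a ha
    by_contra hn
    have ha0 : a ≠ 0 := fun h => hn (h ▸ R₀.zero_mem)
    have hinv := (R₀.mem_or_inv_mem a).resolve_left hn
    have hnu : ¬ IsUnit (⟨a⁻¹, hinv⟩ : R₀) := fun hu => hn (by
      obtain ⟨v, hv⟩ := hu
      have := congrArg (fun b : R₀ => (b : κ)) v.inv_mul
      rw [hv] at this
      have e := (eq_inv_of_mul_eq_one_left this).trans (inv_inv a)
      exact e ▸ (((v⁻¹ : R₀ˣ) : R₀)).2)
    refine hnu (hAloc.map_nonunit _ (IsUnit.of_mul_eq_one (⟨ι a, ha⟩ : A) (Subtype.ext ?_)))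
    show ι a⁻¹ * ι a = 1
    rw [← map_mul, inv_mul_cancel₀ ha0, map_one]
  let j : CommRingCat.of R₀ ⟶ CommRingCat.of A :=
    CommRingCat.ofHom ((ι.comp R₀.subtype).codRestrict A.toSubring hA)
  haveI : IsLocalHom j.hom := hAloc
  have hj : Function.Injective j.hom := fun a b e =>
    R₀.subtype_injective (ι.injective (congrArg (fun c : A => (c : ResidueField V)) e))
  -- the composite valuation ring
  let V' := compVal V A
  let incl : V' →+* V :=
    { toFun := fun a => ⟨a.1, ((mem_compVal V A a.1).mp a.2).1⟩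
      map_one' := rfl, map_mul' := fun _ _ => rfl, map_zero' := rfl, map_add' := fun _ _ => rfl }
  let q : V' →+* A := ((residue V).comp incl).codRestrict A.toSubring
    fun a => ((mem_compVal V A a.1).mp a.2).2
  have hres : ∀ a, θ (residue _ a) = τ.hom a := fun a => rfl
  have hιres : ∀ a, ι (residue _ a) = residue V (σ.hom a) := fun a => rfl
  have hβ₀ : ∀ a, residue _ (β.hom a) ∈ R₀ := by
    intro a
    show θ (residue _ (β.hom a)) ∈ AR
    rw [hres, hAR]
    exact ⟨α.hom a, (congrArg (fun φ => φ.hom a) hcomm).symm⟩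
  let β₀ : X.presheaf.stalk x₀ ⟶ CommRingCat.of R₀ :=
    CommRingCat.ofHom (((residue _).comp β.hom).codRestrict R₀.toSubring hβ₀)
  have hβ' : ∀ a, (σ.hom (β.hom a) : Z.residueField z) ∈ V' := fun a =>
    (mem_compVal V A _).mpr ⟨(σ.hom (β.hom a)).2, by
      rw [Subtype.coe_eta, ← hιres]
      exact hA ⟨_, hβ₀ a⟩⟩
  let β' : X.presheaf.stalk x₀ ⟶ CommRingCat.of V' :=
    CommRingCat.ofHom ((V.subtype.comp (σ.hom.comp β.hom)).codRestrict V'.toSubring hβ')
  have hcomp : CommRingCat.ofHom incl ≫ CommRingCat.ofHom V.subtype =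
      CommRingCat.ofHom V'.subtype := rfl
  have hβ'incl : β' ≫ CommRingCat.ofHom incl = β ≫ σ := rfl
  have hφV : Spec.map (CommRingCat.ofHom incl) ≫ Spec.map β' ≫ X.fromSpecStalk x₀ =
      (Spec.map σ ≫ Y.fromSpecStalk y) ≫ f := by
    rw [← Spec.map_comp_assoc, hβ'incl, Spec.map_comp_assoc, hβ, Category.assoc]
  obtain ⟨φ', ⟨hφ'1, hφ'2⟩, -⟩ := H z V' (Spec.map β' ≫ X.fromSpecStalk x₀) (by
    rw [← hcomp, Spec.map_comp_assoc, hφV, ← Category.assoc, hV, Category.assoc])
  have huniq : Spec.map (CommRingCat.ofHom incl) ≫ φ' = Spec.map σ ≫ Y.fromSpecStalk y := by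
    obtain ⟨ψ, -, hψ⟩ := H z V ((Spec.map σ ≫ Y.fromSpecStalk y) ≫ f)
      (by rw [← Category.assoc, hV, Category.assoc])
    refine (hψ _ ⟨?_, ?_⟩).trans (hψ _ ⟨hV, rfl⟩).symm
    · rw [← Spec.map_comp_assoc, hcomp, hφ'1]
    · rw [Category.assoc, hφ'2, hφV]
  let y₁ : Y := φ' (closedPoint V')
  let σ₁ : Y.presheaf.stalk y₁ ⟶ CommRingCat.of V' := Scheme.stalkClosedPointTo φ'
  have hσ₁ : Spec.map σ₁ ≫ Y.fromSpecStalk y₁ = φ' := Scheme.Spec_stalkClosedPointTo_fromSpecStalk φ'
  have hy : y ⤳ y₁ := by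
    have := hσ
    have h1 : φ' (Spec.map (CommRingCat.ofHom incl) (closedPoint V)) = y :=
      (congrArg (fun φ => φ (closedPoint V)) huniq).trans (closedPoint_map σ)
    rw [← h1]
    exact (specializes_closedPoint (R := V') _).map φ'.continuous
  have hsq : σ₁ ≫ CommRingCat.ofHom incl = Y.presheaf.stalkSpecializes hy ≫ σ := by
    apply Spec.map_injective
    rw [← cancel_mono (Y.fromSpecStalk y₁), Spec.map_comp_assoc, hσ₁, huniq, Spec.map_comp_assoc,
      Scheme.SpecMap_stalkSpecializes_fromSpecStalk]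
  have hρ₀ : ∀ a, residue _ ((Y.presheaf.stalkSpecializes hy).hom a) ∈ R₀ := by
    intro a
    apply hAR₀
    rw [hιres]
    have e : incl (σ₁.hom a) = σ.hom ((Y.presheaf.stalkSpecializes hy).hom a) :=
      congrArg (fun φ => φ.hom a) hsq
    rw [← e]
    exact (q (σ₁.hom a)).2
  let ρ₀ : Y.presheaf.stalk y₁ ⟶ CommRingCat.of R₀ := CommRingCat.ofHom
    (((residue _).comp (Y.presheaf.stalkSpecializes hy).hom).codRestrict R₀.toSubring hρ₀)
  have hρj : ρ₀ ≫ j = σ₁ ≫ CommRingCat.ofHom q := by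
    apply CommRingCat.hom_ext
    ext a
    show ι (residue _ ((Y.presheaf.stalkSpecializes hy).hom a)) = residue V (incl (σ₁.hom a))
    rw [hιres]
    exact congrArg (residue V) (congrArg (fun φ => φ.hom a) hsq).symm
  have hβj : β₀ ≫ j = β' ≫ CommRingCat.ofHom q := rfl
  have hlift₀ : (Spec.map ρ₀ ≫ Y.fromSpecStalk y₁) ≫ f = Spec.map β₀ ≫ X.fromSpecStalk x₀ := by
    apply eq_of_local_injective j hj
    rw [← Category.assoc, ← Spec.map_comp_assoc, hρj, Spec.map_comp_assoc, hσ₁, Category.assoc,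
      hφ'2, ← Spec.map_comp_assoc, ← hβj, Spec.map_comp_assoc]
  -- transfer to `R`
  let eR : R →+* AR := (algebraMap R K).codRestrict AR.toSubring fun r => (hAR _).mpr ⟨r, rfl⟩
  have heR : Function.Bijective eR :=
    ⟨fun a b e => IsFractionRing.injective R K (congrArg (fun c : AR => (c : K)) e),
      fun ⟨b, hb⟩ => by obtain ⟨r, rfl⟩ := (hAR b).mp hb; exact ⟨r, rfl⟩⟩
  let c : CommRingCat.of R₀ ⟶ CommRingCat.of R := CommRingCat.ofHom
    ((RingEquiv.ofBijective eR heR).symm.toRingHom.comp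
      ((θ.comp R₀.subtype).codRestrict AR.toSubring fun a => a.2))
  have hc : ∀ a : R₀, algebraMap R K (c.hom a) = θ a.1 := fun a =>
    congrArg Subtype.val ((RingEquiv.ofBijective eR heR).apply_symm_apply ⟨θ a.1, a.2⟩)
  have hcK : ρ₀ ≫ c ≫ CommRingCat.ofHom (algebraMap R K) =
      Y.presheaf.stalkSpecializes hy ≫ τ := by
    apply CommRingCat.hom_ext
    ext a
    show algebraMap R K (c.hom (ρ₀.hom a)) = _
    rw [hc]
    rfl
  have hcα : β₀ ≫ c = α := by
    apply CommRingCat.hom_ext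
    ext a
    refine IsFractionRing.injective R K ?_
    show algebraMap R K (c.hom (β₀.hom a)) = _
    rw [hc]
    exact congrArg (fun φ => φ.hom a) hcomm
  refine ⟨⟨⟨Spec.map c ≫ Spec.map ρ₀ ≫ Y.fromSpecStalk y₁, ?_, ?_⟩⟩⟩
  · show Spec.map (CommRingCat.ofHom (algebraMap R K)) ≫ _ = i₁
    rw [← Spec.map_comp_assoc, ← Spec.map_comp_assoc, hcK, Spec.map_comp_assoc,
      Scheme.SpecMap_stalkSpecializes_fromSpecStalk, hi₁]
  · show _ = i₂
    rw [Category.assoc, hlift₀, ← Spec.map_comp_assoc, hcα, hi₂]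

end Groth.Agent.ValGen
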